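import Mathlib

/-!
Noether normalization with integral substitutions (adapted from the proof in Mathlib by
the authors of `Mathlib.RingTheory.NoetherNormalization`).
-/

set_option autoImplicit false

open Polynomial MvPolynomial Ideal Nat RingHom List

namespace Groth.Agent.NoetherNormInt

variable {k : Type*} [Field k] {n : ℕ} (f : MvPolynomial (Fin (n + 1)) k)
variable (v w : Fin (n + 1) →₀ ℕ)

local notation3 "up" => 2 + f.totalDegree

variable {f v} in
theorem lt_up (vlt : ∀ i, v i < up) : ∀ l ∈ ofFn v, l < up := by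
  grind

/-- `r` maps `(i : Fin (n + 1))` to `up ^ i`. -/
local notation3 "r" => fun (i : Fin (n + 1)) ↦ up ^ i.1

/-- We construct an algebra map `T1 f c` which maps `X_i` into `X_i + c • X_0 ^ r_i` when `i ≠ 0`
and `X_0` to `X_0`. -/
noncomputable abbrev T1 (c : k) :
    MvPolynomial (Fin (n + 1)) k →ₐ[k] MvPolynomial (Fin (n + 1)) k :=
  aeval fun i ↦ if i = 0 then X 0 else X i + c • X 0 ^ r i

theorem t1_comp_t1_neg (c : k) : (T1 f c).comp (T1 f (-c)) = AlgHom.id _ _ := by
  rw [comp_aeval, ← MvPolynomial.aeval_X_left]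
  ext i v
  cases i using Fin.cases <;> simp

/-- `T1 f 1` leads to an algebra equiv `T f`. -/
noncomputable abbrev T := AlgEquiv.ofAlgHom (T1 f 1) (T1 f (-1))
  (t1_comp_t1_neg f 1) (by simpa using t1_comp_t1_neg f (-1))

theorem sum_r_mul_ne (vlt : ∀ i, v i < up) (wlt : ∀ i, w i < up) (ne : v ≠ w) :
    ∑ x : Fin (n + 1), r x * v x ≠ ∑ x : Fin (n + 1), r x * w x := by
  intro h
  refine ne <| Finsupp.ext <| congrFun <| ofFn_inj.mp ?_
  apply ofDigits_inj_of_len_eq (Nat.lt_add_right f.totalDegree one_lt_two)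
    (by simp) (lt_up vlt) (lt_up wlt)
  simpa only [ofDigits_eq_sum_mapIdx, mapIdx_eq_ofFn, get_ofFn, length_ofFn,
    Fin.val_cast, mul_comm, sum_ofFn] using! h

theorem degreeOf_zero_t {a : k} (ha : a ≠ 0) : ((T f) (monomial v a)).degreeOf 0 =
    ∑ i : Fin (n + 1), (r i) * v i := by
  rw [← natDegree_finSuccEquiv, monomial_eq, Finsupp.prod_pow v fun a ↦ X a]
  simp only [Fin.prod_univ_succ, Fin.sum_univ_succ, map_mul, map_prod, map_pow,
    AlgEquiv.ofAlgHom_apply, MvPolynomial.aeval_C, MvPolynomial.aeval_X, if_pos, Fin.succ_ne_zero,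
    ite_false, one_smul, map_add, finSuccEquiv_X_zero, finSuccEquiv_X_succ, algebraMap_eq]
  have h (i : Fin n) :
      (Polynomial.C (X (R := k) i) + Polynomial.X ^ r i.succ) ^ v i.succ ≠ 0 :=
    pow_ne_zero (v i.succ) (leadingCoeff_ne_zero.mp <| by simp [add_comm, leadingCoeff_X_pow_add_C])
  rw [natDegree_mul (by simp [ha]) (mul_ne_zero (by simp) (Finset.prod_ne_zero_iff.mpr
    (fun i _ ↦ h i))), natDegree_mul (by simp) (Finset.prod_ne_zero_iff.mpr (fun i _ ↦ h i)),
    natDegree_prod _ _ (fun i _ ↦ h i), natDegree_finSuccEquiv, degreeOf_C]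
  simpa only [natDegree_pow, zero_add, natDegree_X, mul_one, Fin.val_zero, pow_zero, one_mul,
    add_right_inj] using Finset.sum_congr rfl (fun i _ ↦ by
    rw [add_comm (Polynomial.C _), natDegree_X_pow_add_C, mul_comm])

/-- `T` maps different monomials of `f` to polynomials with different degrees in `X_0`. -/
theorem degreeOf_t_ne_of_ne (hv : v ∈ f.support) (hw : w ∈ f.support) (ne : v ≠ w) :
    (T f <| monomial v <| coeff v f).degreeOf 0 ≠
    (T f <| monomial w <| coeff w f).degreeOf 0 := by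
  rw [degreeOf_zero_t _ _ <| mem_support_iff.mp hv, degreeOf_zero_t _ _ <| mem_support_iff.mp hw]
  refine sum_r_mul_ne f v w (fun i ↦ ?_) (fun i ↦ ?_) ne <;>
  exact lt_of_le_of_lt ((monomial_le_degreeOf i ‹_›).trans (degreeOf_le_totalDegree f i))
    (by lia)

theorem leadingCoeff_finSuccEquiv_t :
    (finSuccEquiv k n ((T f) ((monomial v) (coeff v f)))).leadingCoeff =
    algebraMap k _ (coeff v f) := by
  rw [monomial_eq, Finsupp.prod_fintype]
  · simp only [map_mul, map_prod, leadingCoeff_mul, leadingCoeff_prod]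
    rw [AlgEquiv.ofAlgHom_apply, algHom_C, algebraMap_eq, finSuccEquiv_apply,
      eval₂Hom_C, coe_comp]
    simp only [AlgEquiv.ofAlgHom_apply, Function.comp_apply, leadingCoeff_C, map_pow,
      leadingCoeff_pow, algebraMap_eq]
    have : ∀ j, ((finSuccEquiv k n) ((T1 f) 1 (X j))).leadingCoeff = 1 := fun j ↦ by
      by_cases h : j = 0
      · simp [h, finSuccEquiv_apply]
      · simp only [aeval_eq_bind₁, bind₁_X_right, if_neg h, one_smul, map_add, map_pow]
        obtain ⟨i, rfl⟩ := Fin.exists_succ_eq.mpr h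
        simp [finSuccEquiv_X_succ, finSuccEquiv_X_zero, add_comm]
    simp only [this, one_pow, Finset.prod_const_one, mul_one]
  exact fun i ↦ pow_zero _

/-- `T` maps `f` into some polynomial in `X_0` such that the leading coefficient is invertible. -/
theorem T_leadingcoeff_isUnit (fne : f ≠ 0) :
    IsUnit (finSuccEquiv k n (T f f)).leadingCoeff := by
  obtain ⟨v, vin, vs⟩ := Finset.exists_max_image f.support
    (fun v ↦ (T f ((monomial v) (coeff v f))).degreeOf 0) (support_nonempty.mpr fne)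
  set h := fun w ↦ (MvPolynomial.monomial w) (coeff w f)
  simp only [← natDegree_finSuccEquiv] at vs
  replace vs : ∀ x ∈ f.support \ {v}, (finSuccEquiv k n ((T f) (h x))).degree <
      (finSuccEquiv k n ((T f) (h v))).degree := by
    intro x hx
    obtain ⟨h1, h2⟩ := Finset.mem_sdiff.mp hx
    apply degree_lt_degree <| lt_of_le_of_ne (vs x h1) ?_
    simpa only [natDegree_finSuccEquiv]
      using degreeOf_t_ne_of_ne f _ _ h1 vin <| ne_of_not_mem_cons h2
  have coeff : (finSuccEquiv k n ((T f) (h v + ∑ x ∈ f.support \ {v}, h x))).leadingCoeff =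
      (finSuccEquiv k n ((T f) (h v))).leadingCoeff := by
    simp only [map_add, map_sum]
    rw [add_comm]
    apply leadingCoeff_add_of_degree_lt <| (lt_of_le_of_lt <| degree_sum_le _ _) ?_
    have h2 : h v ≠ 0 := by simpa [h] using mem_support_iff.mp vin
    replace h2 : (finSuccEquiv k n ((T f) (h v))) ≠ 0 := fun eq ↦ h2 <|
      by simpa only [map_eq_zero_iff _ (AlgEquiv.injective _)] using eq
    exact (Finset.sup_lt_iff <| Ne.bot_lt (fun x ↦ h2 <| degree_eq_bot.mp x)).mpr vs
  nth_rw 2 [← f.support_sum_monomial_coeff]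
  rw [Finset.sum_eq_add_sum_sdiff_singleton_of_mem vin h]
  rw [leadingCoeff_finSuccEquiv_t] at coeff
  simpa only [coeff, algebraMap_eq] using (mem_support_iff.mp vin).isUnit.map MvPolynomial.C

theorem isIntegral_comp_of_surjective {R S T : Type*} [CommRing R] [CommRing S] [CommRing T]
    (g₁ : R →+* S) (g₂ : S →+* T) (hf : g₁.IsIntegral) (hg : Function.Surjective g₂) :
    (g₂.comp g₁).IsIntegral := fun t => by
  obtain ⟨x, rfl⟩ := hg t
  obtain ⟨p, hp, he⟩ := hf x
  exact ⟨p, hp, by rw [← Polynomial.hom_eval₂, he, map_zero]⟩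

theorem isIntegral_of_lift {R S T : Type*} [CommRing R] [CommRing S] [CommRing T]
    (g₁ : R →+* S) (g₂ : S →+* T) (g₃ : R →+* T) (h : ∀ x, g₂ (g₁ x) = g₃ x) (h₃ : g₃.IsIntegral) :
    g₂.IsIntegral := by
  have : g₂.comp g₁ = g₃ := RingHom.ext h
  subst this
  exact h₃.tower_top

theorem isIntegral_comp {R S T : Type*} [CommRing R] [CommRing S] [CommRing T]
    (g₁ : R →+* S) (g₂ : S →+* T) (h₁ : g₁.IsIntegral) (h₂ : g₂.IsIntegral) :
    (g₂.comp g₁).IsIntegral :=
  RingHom.IsIntegral.trans _ _ h₁ h₂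

theorem isIntegral_kerLift_comp {A B C : Type*} [CommRing A] [CommRing B] [CommRing C] [Algebra k A]
    [Algebra k B] [Algebra k C] (hom : B →ₐ[k] C) (pre : A →ₐ[k] B)
    (h1 : ((Ideal.Quotient.mkₐ k (RingHom.ker hom)).comp pre).toRingHom.IsIntegral)
    (h2 : hom.toRingHom.IsIntegral) :
    ((Ideal.kerLiftAlg hom).comp ((Ideal.Quotient.mkₐ k (RingHom.ker hom)).comp pre)).toRingHom.IsIntegral :=
  isIntegral_comp _ (Ideal.kerLiftAlg hom).toRingHom h1
    (isIntegral_of_lift (Ideal.Quotient.mk (RingHom.ker hom)) (Ideal.kerLiftAlg hom).toRingHom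
      hom.toRingHom (fun x => Ideal.kerLiftAlg_mk hom x) h2)

/-- The value at `X_{i+1}` of the inverse substitution. -/
noncomputable def sub (i : Fin n) : MvPolynomial (Fin (n + 1)) k :=
  X i.succ - X 0 ^ ((2 + f.totalDegree) ^ (i.succ : ℕ))

theorem T_symm_X_succ (i : Fin n) : (T f).symm (X i.succ) = sub f i := by
  show T1 f (-1) (X i.succ) = _
  simp [sub, sub_eq_add_neg]

theorem sub_mem_range (i : Fin n) :
    sub f i ∈ Set.range (MvPolynomial.map (Int.castRingHom k) :
      MvPolynomial (Fin (n + 1)) ℤ → MvPolynomial (Fin (n + 1)) k) :=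
  ⟨X i.succ - X 0 ^ ((2 + f.totalDegree) ^ (i.succ : ℕ)), by simp [sub]⟩

theorem isIntegral_sub (I : Ideal (MvPolynomial (Fin (n + 1)) k)) (fne : f ≠ 0) (fi : f ∈ I) :
    ((Ideal.Quotient.mkₐ k I).comp (MvPolynomial.aeval (sub f))).IsIntegral := by
  let u := T_leadingcoeff_isUnit f fne
  let g := u.unit⁻¹.val • finSuccEquiv k n (T f f)
  have hg : g.Monic := monic_of_isUnit_leadingCoeff_inv_smul u
  let ψ : (MvPolynomial (Fin n) k)[X] →ₐ[k] MvPolynomial (Fin (n + 1)) k ⧸ I :=
    (Ideal.Quotient.mkₐ k I).comp ((T f).symm.toAlgHom.comp (finSuccEquiv k n).symm.toAlgHom)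
  have hψ0 : ψ (finSuccEquiv k n (T f f)) = 0 := by
    simp only [ψ, AlgHom.comp_apply, AlgEquiv.coe_toAlgHom, AlgEquiv.symm_apply_apply,
      Ideal.Quotient.mkₐ_eq_mk]
    exact Ideal.Quotient.eq_zero_iff_mem.2 fi
  have hψg : ∀ a ∈ Ideal.span {g}, ψ a = 0 := by
    intro a ha
    obtain ⟨b, rfl⟩ := Ideal.mem_span_singleton'.1 ha
    rw [map_mul]
    simp only [g, Algebra.smul_def, map_mul, hψ0, mul_zero]
  have hint : RingHom.IsIntegral ((Ideal.Quotient.mkₐ (MvPolynomial (Fin n) k) (Ideal.span {g})).comp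
      (Algebra.ofId (MvPolynomial (Fin n) k) ((MvPolynomial (Fin n) k)[X]))).toRingHom :=
    hg.quotient_isIntegral (Ideal.mem_span_singleton_self g)
  have hsurj : Function.Surjective (Ideal.Quotient.lift (Ideal.span {g}) ψ.toRingHom hψg) :=
    Ideal.Quotient.lift_surjective_of_surjective _ _
      ((Ideal.Quotient.mkₐ_surjective k I).comp
        ((T f).symm.surjective.comp (finSuccEquiv k n).symm.surjective))
  have hcomp : ((Ideal.Quotient.lift (Ideal.span {g}) ψ.toRingHom hψg).comp
      ((Ideal.Quotient.mkₐ (MvPolynomial (Fin n) k) (Ideal.span {g})).comp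
        (Algebra.ofId (MvPolynomial (Fin n) k) ((MvPolynomial (Fin n) k)[X]))).toRingHom) =
      ((Ideal.Quotient.mkₐ k I).comp (MvPolynomial.aeval (sub f))).toRingHom := by
    refine MvPolynomial.ringHom_ext (fun c => ?_) fun i => ?_
    · show ψ (Polynomial.C (MvPolynomial.C c)) = Ideal.Quotient.mk I (MvPolynomial.aeval (sub f) (MvPolynomial.C c))
      rw [show Polynomial.C (MvPolynomial.C c : MvPolynomial (Fin n) k) = algebraMap k _ c from rfl,
        ψ.commutes, MvPolynomial.aeval_C]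
      rfl
    · show ψ (Polynomial.C (X i)) = Ideal.Quotient.mk I (MvPolynomial.aeval (sub f) (X i))
      rw [MvPolynomial.aeval_X, ← T_symm_X_succ, ← finSuccEquiv_X_succ]
      simp [ψ]
  show ((Ideal.Quotient.mkₐ k I).comp (MvPolynomial.aeval (sub f))).toRingHom.IsIntegral
  rw [← hcomp]
  have h := fun g₁ g₂ => @isIntegral_comp_of_surjective (MvPolynomial (Fin n) k)
    ((MvPolynomial (Fin n) k)[X] ⧸ Ideal.span {g}) (MvPolynomial (Fin (n + 1)) k ⧸ I) _ _ _ g₁ g₂
  exact h _ _ hint hsurj

/-- Noether normalization by integer polynomials. -/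
theorem exists_integral_int {n : ℕ} (I : Ideal (MvPolynomial (Fin n) k)) (hI : I ≠ ⊤) :
    ∃ (s : ℕ) (y : Fin s → MvPolynomial (Fin n) k),
      (∀ i, y i ∈ Set.range (MvPolynomial.map (Int.castRingHom k) :
        MvPolynomial (Fin n) ℤ → MvPolynomial (Fin n) k)) ∧
      Function.Injective ((Ideal.Quotient.mkₐ k I).comp (MvPolynomial.aeval y)) ∧
      ((Ideal.Quotient.mkₐ k I).comp (MvPolynomial.aeval y)).IsIntegral := by
  induction n with
  | zero =>
    refine ⟨0, Fin.elim0, fun i => i.elim0, ?_, ?_⟩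
    · rw [injective_iff_map_eq_zero]
      intro a ha
      rw [MvPolynomial.eq_C_of_isEmpty a] at ha ⊢
      rw [AlgHom.comp_apply, MvPolynomial.aeval_C, AlgHom.commutes] at ha
      by_contra hne
      exact hI (Ideal.eq_top_of_isUnit_mem _ (Ideal.Quotient.eq_zero_iff_mem.1 ha)
        ((isUnit_iff_ne_zero.2 fun h => hne (by rw [h, map_zero])).map _))
    · refine RingHom.isIntegral_of_surjective _ fun b => ?_
      obtain ⟨b, rfl⟩ := Ideal.Quotient.mk_surjective b
      refine ⟨MvPolynomial.C (MvPolynomial.coeff 0 b), ?_⟩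
      conv_rhs => rw [MvPolynomial.eq_C_of_isEmpty b]
      simp
      rfl
  | succ d hd =>
    by_cases eqi : I = ⊥
    · subst eqi
      refine ⟨d + 1, X, fun i => ⟨X i, by simp⟩, ?_, ?_⟩
      · rw [MvPolynomial.aeval_X_left, AlgHom.comp_id]
        exact ((Ideal.Quotient.mk_bijective_iff_eq_bot _).mpr rfl).1
      · rw [MvPolynomial.aeval_X_left, AlgHom.comp_id]
        exact RingHom.isIntegral_of_surjective _ (Ideal.Quotient.mkₐ_surjective k _)
    · obtain ⟨f, fi, fne⟩ := Submodule.exists_mem_ne_zero_of_ne_bot eqi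
      let hom := (Ideal.Quotient.mkₐ k I).comp (MvPolynomial.aeval (sub f))
      have := Ideal.Quotient.nontrivial_iff.mpr hI
      obtain ⟨s, y, hy, hinj, hint⟩ := hd (RingHom.ker hom) (RingHom.ker_ne_top hom)
      let y' : Fin s → MvPolynomial (Fin (d + 1)) k := fun i => MvPolynomial.aeval (sub f) (y i)
      have hcomp : (Ideal.Quotient.mkₐ k I).comp (MvPolynomial.aeval y') =
          (Ideal.kerLiftAlg hom).comp
            ((Ideal.Quotient.mkₐ k (RingHom.ker hom)).comp (MvPolynomial.aeval y)) := by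
        refine MvPolynomial.algHom_ext fun i => ?_
        rw [AlgHom.comp_apply, MvPolynomial.aeval_X, AlgHom.comp_apply, AlgHom.comp_apply,
          MvPolynomial.aeval_X, Ideal.Quotient.mkₐ_eq_mk]
        exact (Ideal.kerLiftAlg_mk hom (y i)).symm
      refine ⟨s, y', fun i => ?_, ?_, ?_⟩
      · obtain ⟨p, hp⟩ := hy i
        choose q hq using fun j => sub_mem_range f j
        refine ⟨MvPolynomial.bind₁ q p, ?_⟩
        show _ = MvPolynomial.aeval (sub f) (y i)
        rw [← hp, MvPolynomial.map_bind₁, MvPolynomial.aeval_eq_bind₁]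
        simp only [hq]
      · rw [hcomp]
        have e0 : Function.Injective (Ideal.kerLiftAlg hom) := Ideal.kerLiftAlg_injective hom
        intro a b hab
        exact hinj (e0 hab)
      · rw [hcomp]
        have e1 := isIntegral_kerLift_comp hom (MvPolynomial.aeval y)
        have e2 : hom.toRingHom.IsIntegral := isIntegral_sub f I fne fi
        have e3 := e1 hint e2
        exact e3

end Groth.Agent.NoetherNormInt
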